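import Mathlib
import Cfsg.Prelude.Def_ChevD4
import Cfsg.Prelude.Def_ChevG2
import Cfsg.Prelude.Def_LieTwisted
import Cfsg.Agent.Lib.Helper5.GraphFix.Inst
import Cfsg.Agent.Lib.Helper5.Tw3D4Core

set_option autoImplicit false

/-!
The fixed points of the triality graph automorphism of `D₄(K)` form a group isomorphic to `G₂(K)`.
-/

namespace Cfsg.Agent.Lib.Helper5.GraphFix.D4G2

open Cfsg Cfsg.Lie Cfsg.Agent.Lib.Helper5.ChevSym Cfsg.Agent.Lib.Helper5.ChevStruct
  Cfsg.Agent.Lib.Helper5.Tw3D4 Cfsg.Agent.Lib.Helper5.GraphFix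

def cL : List ℤ := [-1, -1, -1, -1, 1, 1, 1, -1, -1, 1, 1, 1, 1, 1, 1, -1, -1, 1, 1, 1, -1, -1, -1, -1]

def omL : List ℕ := [0, 1, 2, 2, 3, 4, 2, 3, 3, 5, 4, 4, 7, 7, 6, 8, 8, 9, 7, 8, 9, 9, 10, 11]

def jt : JTab := [[(0, 1), (2, 1), (3, 1)], [(1, 1)], [(4, -1)], [(5, -1)], [(6, -1), (10, 1), (7, -1)], [(8, 1), (11, -1), (12, -1)], [(9, 1), (14, 1), (15, 1)], [(13, 1)], [(18, 1)], [(16, 1), (22, 1), (17, 1)], [(19, -1), (23, 1), (20, -1)], [(21, 1), (24, -1), (25, -1)], [(26, -1)], [(27, -1)]]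

def pt : PTab := [(0, 1), (1, 1), (4, -1), (5, -1), (6, -1), (8, 1), (9, 1), (13, 1), (18, 1), (16, 1), (19, -1), (21, 1), (26, -1), (27, -1)]

def cf (r : ℕ) : ℤ := cL.getD r 0

def om (r : ℕ) : ℕ := omL.getD r 0

def nd (J : List ℕ) : ℕ := bif Nat.beq J.length 1 then 1 else 0

theorem hG2 : chevG2 ∈ Seven := by simp [Seven]

set_option maxRecDepth 1000000 in
theorem range_ok : checkRange chevD4 jt = true := by decide +kernel

set_option maxRecDepth 1000000 in
theorem pj_ok : checkPJ chevD4 chevG2 jt pt = true := by decide +kernel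

set_option maxRecDepth 1000000 in
theorem blk_ok : ∀ B ∈ twD4.blocks, checkBlk twD4 chevG2 jt cf om B = true := by decide +kernel

set_option maxRecDepth 1000000 in
theorem jrel_ok : ∀ J ∈ orbits, nd J < chevG2.rank ∧
    checkJAll chevD4 chevG2 jt (chevG2.simple (nd J))
      (J.map fun i => (chevD4.simple i, 1)) = true ∧
    checkJAll chevD4 chevG2 jt (chevG2.neg (chevG2.simple (nd J)))
      (J.map fun i => (chevD4.neg (chevD4.simple i), 1)) = true := by decide +kernel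

set_option maxRecDepth 1000000 in
theorem om1_ok : ∀ J ∈ orbits, ∀ r < chevD4.nroots,
    om (wAct chevD4 J r) = wAct chevG2 [nd J] (om r) := by decide +kernel

set_option maxRecDepth 1000000 in
theorem om2_ok : ∀ r < chevD4.nroots, om r < chevG2.nroots ∧
    (chevD4.IsPosRoot r ↔ chevG2.IsPosRoot (om r)) := by decide +kernel

set_option maxRecDepth 1000000 in
theorem neg_ok : ∀ J ∈ orbits, ∀ i ∈ J, chevD4.IsPosRoot (chevD4.simple i) ∧
    ¬ chevD4.IsPosRoot (wAct chevD4 J (chevD4.simple i)) := by decide +kernel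

theorem surj_ok : ∀ j < chevG2.rank, ∃ J ∈ orbits, nd J = j := by decide

end Cfsg.Agent.Lib.Helper5.GraphFix.D4G2
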