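import Mathlib
import Cfsg.Prelude.Def_ChevD4
import Cfsg.Prelude.Def_ChevG2
import Cfsg.Prelude.Def_LieTwisted
import Cfsg.Agent.Lib.Helper5.GraphFix.D4G2Data

set_option autoImplicit false

/-!
The fixed points of the triality graph automorphism of `D₄(K)` form a group isomorphic to `G₂(K)`.
-/

namespace Cfsg.Agent.Lib.Helper5.GraphFix.D4G2

open Cfsg Cfsg.Lie Cfsg.Agent.Lib.Helper5.ChevSym Cfsg.Agent.Lib.Helper5.ChevStruct
  Cfsg.Agent.Lib.Helper5.Tw3D4 Cfsg.Agent.Lib.Helper5.GraphFix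

variable {K : Type*} [Field K]

theorem hid : ∀ x : K, (RingHom.id K) x = x ^ 1 := fun x => by simp

theorem hid3 : ∀ x : K, (RingHom.id K) ((RingHom.id K) ((RingHom.id K) x)) = x := fun _ => rfl

omit [Field K] in
theorem hconst4 : ∀ J ∈ orbits, ∀ s : ℕ → K,
    (∀ i ∈ J, s (rhoN chevD4.rank rho4 i) = s i) → ∀ i ∈ J, s i = s (J.headD 0) := by
  intro J hJ s hs i hi
  obtain ⟨r0, r1, r2, r3⟩ := rhoN_vals
  have r0' : rhoN chevD4.rank rho4 0 = 2 := r0
  have r2' : rhoN chevD4.rank rho4 2 = 3 := r2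
  simp only [orbits, List.mem_cons, List.not_mem_nil, or_false] at hJ
  rcases hJ with rfl | rfl
  · have h0 := hs 0 (by simp)
    have h2 := hs 2 (by simp)
    rw [r0'] at h0
    rw [r2'] at h2
    simp only [List.mem_cons, List.not_mem_nil, or_false] at hi
    rcases hi with rfl | rfl | rfl
    · rfl
    · exact h0
    · show s 3 = s 0
      rw [h2, h0]
  · simp only [List.mem_cons, List.not_mem_nil, or_false] at hi
    subst hi
    rfl

theorem xplus_mem (J : List ℕ) (hJ : J ∈ orbits) (t : K) :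
    wordGL chevD4 hD4 (J.map fun i => (chevD4.simple i, t)) ∈ twistedD4 K 1 ∧
    wordGL chevD4 hD4 (J.map fun i => (chevD4.neg (chevD4.simple i), t)) ∈ twistedD4 K 1 := by
  obtain ⟨s0, s1, s2, s3, n0, n1, n2, n3⟩ := simple_vals
  simp only [orbits, List.mem_cons, List.not_mem_nil, or_false] at hJ
  rcases hJ with rfl | rfl
  · constructor
    · have := wordGL_mem (K := K) (q := 1) [(d4p1, t), (d4p3, t ^ 1), (d4p4, t ^ (1 ^ 2))]
        (Or.inr ⟨t, (d4p1, d4p3, d4p4), by simp, rfl⟩)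
      simpa [s0, s2, s3] using this
    · have := wordGL_mem (K := K) (q := 1) [(d4m1, t), (d4m3, t ^ 1), (d4m4, t ^ (1 ^ 2))]
        (Or.inr ⟨t, (d4m1, d4m3, d4m4), by simp, rfl⟩)
      simpa [s0, s2, s3, n0, n2, n3] using this
  · constructor
    · have := wordGL_mem (K := K) (q := 1) [(d4p2, t)] (Or.inl ⟨t, pow_one t, d4p2, by simp, rfl⟩)
      simpa [s1] using this
    · have := wordGL_mem (K := K) (q := 1) [(d4m2, t)] (Or.inl ⟨t, pow_one t, d4m2, by simp, rfl⟩)
      simpa [s1, n1] using this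

theorem gen_le : twistedD4 K 1 ≤ Subgroup.closure {g | ∃ J ∈ orbits, ∃ t : K,
    g = wordGL chevD4 hD4 (J.map fun i => (chevD4.simple i, t)) ∨
    g = wordGL chevD4 hD4 (J.map fun i => (chevD4.neg (chevD4.simple i), t))} := by
  obtain ⟨s0, s1, s2, s3, n0, n1, n2, n3⟩ := simple_vals
  unfold twistedD4 ChevalleyDatum.genSubgroup
  apply Subgroup.closure_mono
  rintro g ⟨w, hw, hg⟩
  have hg' : g = wordGL chevD4 hD4 w := Units.ext (by rw [hg, wordGL_val])
  rcases hw with ⟨t, _, r, hr, rfl⟩ | ⟨t, rs, hrs, rfl⟩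
  · simp only [List.mem_cons, List.not_mem_nil, or_false] at hr
    rcases hr with rfl | rfl
    · refine ⟨[1], by simp [orbits], t, Or.inl ?_⟩
      rw [hg']; simp [s1]
    · refine ⟨[1], by simp [orbits], t, Or.inr ?_⟩
      rw [hg']; simp [s1, n1]
  · simp only [List.mem_cons, List.not_mem_nil, or_false] at hrs
    rcases hrs with rfl | rfl
    · refine ⟨[0, 2, 3], by simp [orbits], t, Or.inl ?_⟩
      rw [hg']; simp [s0, s2, s3]
    · refine ⟨[0, 2, 3], by simp [orbits], t, Or.inr ?_⟩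
      rw [hg']; simp [s0, s2, s3, n0, n2, n3]

/-- the hypotheses on the embedding of `G₂` -/
theorem emb4 [Fintype K] : EmbHyp twD4 hD4 chevG2 hG2 chkGraphPerm_gD4a K rho4 orbits
    (twistedD4 K 1) jt pt nd om where
  hPJ := pj_ok
  hblk := fun B hB => hblk_of_check twD4 twD4_ok hD4 chevG2 hG2 chkGraphPerm_gD4a hG4 jt range_ok
    cf om B hB (blk_ok B hB)
  hJrel := by
    intro J hJ
    obtain ⟨h1, h2, h3⟩ := jrel_ok J hJ
    refine ⟨h1, fun t => ⟨?_, ?_⟩⟩
    · have := psiRel_of_check (K := K) chevD4 hD4 chevG2 hG2 jt range_ok _ _ h2 t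
      have e : (J.map fun i => (chevD4.simple i, (1 : ℤ))).map
          (fun e => (e.1, ((e.2 : ℤ) : K) * t)) = J.map fun i => (chevD4.simple i, t) := by
        rw [List.map_map]; apply List.map_congr_left; intro i _; simp
      rw [e] at this
      exact this
    · have := psiRel_of_check (K := K) chevD4 hD4 chevG2 hG2 jt range_ok _ _ h3 t
      have e : (J.map fun i => (chevD4.neg (chevD4.simple i), (1 : ℤ))).map
          (fun e => (e.1, ((e.2 : ℤ) : K) * t))
          = J.map fun i => (chevD4.neg (chevD4.simple i), t) := by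
        rw [List.map_map]; apply List.map_congr_left; intro i _; simp
      rw [e] at this
      exact this
  hperm := orbits_perm
  horth := fun J hJ => ⟨orth_ok J hJ, orbits_nodup J hJ⟩
  hconst := hconst4
  hfix := hfix4 (RingHom.id K) hid3
  hom1 := om1_ok
  hom2 := om2_ok
  hgen := gen_le
  hXmem := xplus_mem
  hsurj := surj_ok

/-- the hypotheses of the `(B, N)`-pair -/
theorem hyp4id [Fintype K] : TwistBNHyp chevD4 hD4 gD4a chkGraphPerm_gD4a (RingHom.id K) rho4
    orbits (twistedD4 K 1) where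
  hG := fun r hr => chkGraph_gD4a r hr
  hS := sigmaOK_gD4a
  hrho := hrho4
  hO := orbsOK4
  hG1 := twisted_eq_fix4 (RingHom.id K) hid hid3
  hn := nJ_mem (RingHom.id K) hid
  hsub := hsub4
  hdist := hdist4
  hne := by
    intro J hJ
    obtain ⟨h1, h2, -⟩ := jrel_ok J hJ
    have hS : chevG2.simple (nd J) < chevG2.nroots :=
      (checkRows_spec chevG2 (checkRows_all chevG2 hG2) (nd J) h1).2.1
    have hrel := ((emb4 (K := K)).hJrel J hJ).2 1
    exact hne_of_rel chevD4 hD4 chevG2 hG2 gD4a chkGraphPerm_gD4a jt pt pj_ok J _ hS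
      (by decide) (neg_ok J hJ)
      (twisted_le_fix (RingHom.id K) hid hid3 (xplus_mem J hJ 1).1) hrel.1

/-- the group of the fixed points of the triality is isomorphic to `G₂(K)` -/
theorem fix_equiv_d4 [Fintype K] : Nonempty (↥(twistedD4 K 1) ≃* ↥(chevG2.group K)) :=
  fix_equiv twD4 twD4_ok hD4 chevG2 hG2 chkGraphPerm_gD4a rho4 orbits (twistedD4 K 1) jt pt nd om
    emb4 hyp4id w0Js4 w0Js4_mem w0Js4_chk

end Cfsg.Agent.Lib.Helper5.GraphFix.D4G2
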